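import Groth.Agent.An.H548.TrdegCore
import Mathlib.RingTheory.Kaehler.Basic
import Mathlib.RingTheory.LocalRing.ResidueField.Ideal
import Mathlib.RingTheory.Ideal.MinimalPrime.Basic
import Mathlib.RingTheory.Ideal.MinimalPrime.Localization
import Mathlib.Algebra.MvPolynomial.Eval

/-!
# The non-transversal hyperplanes on a chart

`E` is a `k`-algebra with `Ω[E⁄k]` free of rank `r`, generated by `D x_i` (`i : Fin n`), all residue fields having
transcendence degree at most `r`. Then the hyperplanes `a_0 + ∑ a_i x_i = 0` which are not transversal at some point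
satisfy a non trivial algebraic equation.
-/

set_option autoImplicit false
universe u

open TensorProduct KaehlerDifferential

namespace Groth.Agent.An.H548.Chart

variable {k : Type u} [Field k] {E : Type u} [CommRing E] [Algebra k E] {n r : ℕ}

/-- The ideal of `E[a_1, …, a_n]` of the equations `∑ a_i D x_i = 0`. -/
noncomputable def badIdeal (x : Fin n → E) (b : Module.Basis (Fin r) E Ω[E⁄k]) : Ideal (MvPolynomial (Fin n) E) :=
  Ideal.span (Set.range fun j : Fin r =>
    ∑ i, MvPolynomial.X i * MvPolynomial.C (b.repr (D k E (x i)) j))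

abbrev BadRing (x : Fin n → E) (b : Module.Basis (Fin r) E Ω[E⁄k]) : Type u :=
  MvPolynomial (Fin n) E ⧸ badIdeal x b

/-- The universal point `(-∑ a_i x_i, a_1, …, a_n)`. -/
noncomputable def uPt (x : Fin n → E) (b : Module.Basis (Fin r) E Ω[E⁄k]) : Fin (n + 1) → BadRing x b :=
  Fin.cons (-∑ i, Ideal.Quotient.mk _ (MvPolynomial.X i) * Ideal.Quotient.mk _ (MvPolynomial.C (x i)))
    fun i => Ideal.Quotient.mk _ (MvPolynomial.X i)

theorem not_injective (x : Fin n → E) (b : Module.Basis (Fin r) E Ω[E⁄k])
    (hx : Submodule.span E (Set.range fun i => D k E (x i)) = ⊤)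
    (htr : ∀ (p : Ideal E) [p.IsPrime], Algebra.trdeg k p.ResidueField ≤ (r : Cardinal.{u})) :
    ¬ Function.Injective (MvPolynomial.aeval (uPt x b) : MvPolynomial (Fin (n + 1)) k →ₐ[k] BadRing x b) := by
  intro hinj
  obtain ⟨P, hP, hPc⟩ := Ideal.exists_comap_eq_of_mem_minimalPrimes_of_injective
    (f := (MvPolynomial.aeval (uPt x b) : MvPolynomial (Fin (n + 1)) k →ₐ[k] BadRing x b).toRingHom) hinj ⊥
    (by rw [IsDomain.minimalPrimes_eq_singleton_bot]; rfl)
  let p : Ideal E := P.under E
  let K := p.ResidueField
  let F := P.ResidueField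
  let fKF : K →ₐ[k] F := Ideal.ResidueField.mapₐ p P (IsScalarTower.toAlgHom k E (BadRing x b)) rfl
  let _ : Algebra K F := fKF.toRingHom.toAlgebra
  have htow : IsScalarTower k K F := IsScalarTower.of_algebraMap_eq' fKF.comp_algebraMap.symm
  have hEKF : ∀ e : E, algebraMap K F (algebraMap E K e) =
      algebraMap (BadRing x b) F (Ideal.Quotient.mk _ (MvPolynomial.C e)) := by
    intro e
    have h1 : fKF (algebraMap E K e) = algebraMap (BadRing x b) F
        ((IsScalarTower.toAlgHom k E (BadRing x b)).toRingHom e) :=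
      Ideal.ResidueField.map_algebraMap p P _ rfl e
    exact h1
  let m : Fin n → (Fin r → K) := fun i j => algebraMap E K (b.repr (D k E (x i)) j)
  let a : Fin n → F := fun i => algebraMap (BadRing x b) F (Ideal.Quotient.mk _ (MvPolynomial.X i))
  let y : Fin n → K := fun i => algebraMap E K (x i)
  have hm : Submodule.span K (Set.range m) = ⊤ := by
    rw [eq_top_iff, ← (Pi.basisFun K (Fin r)).span_eq, Submodule.span_le]
    rintro _ ⟨j, rfl⟩
    rw [Pi.basisFun_apply]
    have h1 : b j ∈ Submodule.span E (Set.range fun i => D k E (x i)) := by rw [hx]; trivial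
    rw [Submodule.mem_span_range_iff_exists_fun] at h1
    obtain ⟨c, hc⟩ := h1
    have h2 : (Pi.single j 1 : Fin r → K) = ∑ i, algebraMap E K (c i) • m i := by
      ext l
      have h3 := congrArg (fun w => algebraMap E K (b.repr w l)) hc
      simp only [map_sum, map_smul, Finsupp.coe_finsetSum, Finset.sum_apply, Finsupp.smul_apply,
        smul_eq_mul, map_mul, Module.Basis.repr_self] at h3
      simp only [Finset.sum_apply, Pi.smul_apply, smul_eq_mul, m]
      rw [h3]
      by_cases hjl : j = l
      · subst hjl; simp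
      · rw [Finsupp.single_eq_of_ne (Ne.symm hjl), map_zero, Pi.single_eq_of_ne (Ne.symm hjl)]
    rw [h2]
    exact sum_mem fun i _ => Submodule.smul_mem _ _ (Submodule.subset_span ⟨i, rfl⟩)
  have ha : ∀ j, ∑ i, a i * algebraMap K F (m i j) = 0 := by
    intro j
    simp only [a, m, hEKF, ← map_mul, ← map_sum]
    rw [Ideal.Quotient.eq_zero_iff_mem.2, map_zero]
    exact Ideal.subset_span ⟨j, rfl⟩
  refine TrdegCore.not_algebraicIndependent n r (htr p) m hm a ha y ?_
  rw [algebraicIndependent_iff_injective_aeval]
  have h1 : (Fin.cons (-∑ i, a i * algebraMap K F (y i)) a : Fin (n + 1) → F) =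
      fun t => algebraMap (BadRing x b) F (uPt x b t) := by
    funext t
    refine Fin.cases ?_ (fun i => ?_) t
    · simp only [Fin.cons_zero, uPt, map_neg, map_sum, map_mul, y, a, hEKF]
    · simp only [Fin.cons_succ, uPt, a]
  rw [h1]
  rw [injective_iff_map_eq_zero]
  intro g hg
  have h2 : algebraMap (BadRing x b) F (MvPolynomial.aeval (uPt x b) g) = 0 := by
    rw [← hg]
    have h3 := MvPolynomial.comp_aeval_apply (R := k) (uPt x b) (IsScalarTower.toAlgHom k (BadRing x b) F) g
    exact h3
  rw [Ideal.algebraMap_residueField_eq_zero] at h2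
  have h3 : g ∈ (⊥ : Ideal (MvPolynomial (Fin (n + 1)) k)) := by
    rw [← hPc]; exact h2
  exact h3

/-- The non transversal hyperplanes satisfy a non trivial equation. -/
theorem exists_equation (x : Fin n → E) (b : Module.Basis (Fin r) E Ω[E⁄k])
    (hx : Submodule.span E (Set.range fun i => D k E (x i)) = ⊤)
    (htr : ∀ (p : Ideal E) [p.IsPrime], Algebra.trdeg k p.ResidueField ≤ (r : Cardinal.{u})) :
    ∃ g : MvPolynomial (Fin (n + 1)) k, g ≠ 0 ∧ ∀ (p : Ideal E) [p.IsPrime] (a : Fin (n + 1) → k),
      (algebraMap k E (a 0) + ∑ i : Fin n, algebraMap k E (a i.succ) * x i) ∈ p →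
      (1 : p.ResidueField) ⊗ₜ[E] D k E (algebraMap k E (a 0) + ∑ i : Fin n, algebraMap k E (a i.succ) * x i) = 0 →
      MvPolynomial.eval a g = 0 := by
  have h1 := not_injective x b hx htr
  rw [injective_iff_map_eq_zero] at h1
  push Not at h1
  obtain ⟨g, hg, hg0⟩ := h1
  refine ⟨g, hg0, fun p _ a ha hd => ?_⟩
  let K := p.ResidueField
  have hd' : ∀ j, ∑ i : Fin n, algebraMap E K (algebraMap k E (a i.succ)) * algebraMap E K (b.repr (D k E (x i)) j) = 0 := by
    intro j
    have h2 := congrArg (fun w => (b.baseChange K).repr w j) hd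
    simp only [Module.Basis.baseChange_repr_tmul, map_zero, Finsupp.zero_apply] at h2
    have h3 : D k E (algebraMap k E (a 0) + ∑ i : Fin n, algebraMap k E (a i.succ) * x i) =
        ∑ i : Fin n, algebraMap k E (a i.succ) • D k E (x i) := by
      rw [map_add, Derivation.map_algebraMap, zero_add, map_sum]
      refine Finset.sum_congr rfl fun i _ => ?_
      rw [Derivation.leibniz, Derivation.map_algebraMap, smul_zero, add_zero]
    rw [h3, map_sum, Finsupp.finsetSum_apply, Finset.sum_smul] at h2
    rw [← h2]
    refine Finset.sum_congr rfl fun i _ => ?_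
    rw [map_smul, Finsupp.smul_apply, smul_eq_mul, Algebra.smul_def, mul_one, map_mul]
  let ev : MvPolynomial (Fin n) E →+* K :=
    MvPolynomial.eval₂Hom (algebraMap E K) (fun i => algebraMap k K (a i.succ))
  have hev : ∀ w ∈ badIdeal x b, ev w = 0 := by
    intro w hw
    have : badIdeal x b ≤ RingHom.ker ev := by
      rw [badIdeal, Ideal.span_le]
      rintro _ ⟨j, rfl⟩
      change ev _ = 0
      simp only [ev, map_sum, map_mul, MvPolynomial.eval₂Hom_X', MvPolynomial.eval₂Hom_C]
      rw [← hd' j]
      rfl
    exact this hw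
  let φ : BadRing x b →+* K := Ideal.Quotient.lift _ ev hev
  have hφ : φ.comp (MvPolynomial.aeval (uPt x b) : MvPolynomial (Fin (n + 1)) k →ₐ[k] BadRing x b).toRingHom =
      (algebraMap k K).comp (MvPolynomial.eval a) := by
    apply MvPolynomial.ringHom_ext
    · intro c
      have h2 : (MvPolynomial.aeval (uPt x b) : MvPolynomial (Fin (n + 1)) k →ₐ[k] BadRing x b)
          (MvPolynomial.C c) = Ideal.Quotient.mk _ (MvPolynomial.C (algebraMap k E c)) := by
        rw [MvPolynomial.aeval_C]; rfl
      change φ (MvPolynomial.aeval (uPt x b) (MvPolynomial.C c)) = algebraMap k K (MvPolynomial.eval a (MvPolynomial.C c))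
      rw [h2, MvPolynomial.eval_C]
      change ev (MvPolynomial.C (algebraMap k E c)) = _
      simp only [ev, MvPolynomial.eval₂Hom_C]
      exact (IsScalarTower.algebraMap_apply k E K c).symm
    · intro t
      change φ (MvPolynomial.aeval (uPt x b) (MvPolynomial.X t)) = algebraMap k K (MvPolynomial.eval a (MvPolynomial.X t))
      rw [MvPolynomial.aeval_X, MvPolynomial.eval_X]
      refine Fin.cases ?_ (fun i => ?_) t
      · simp only [uPt, Fin.cons_zero, map_neg, map_sum, map_mul]
        have h2 : ∀ i, φ (Ideal.Quotient.mk _ (MvPolynomial.X i)) = algebraMap E K (algebraMap k E (a i.succ)) := by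
          intro i
          change ev (MvPolynomial.X i) = _
          simp only [ev, MvPolynomial.eval₂Hom_X']
          exact IsScalarTower.algebraMap_apply k E K _
        have h3 : ∀ i, φ (Ideal.Quotient.mk _ (MvPolynomial.C (x i))) = algebraMap E K (x i) := by
          intro i
          change ev (MvPolynomial.C (x i)) = _
          simp only [ev, MvPolynomial.eval₂Hom_C]
        simp only [h2, h3, ← map_mul, ← map_sum]
        have h4 : algebraMap E K (algebraMap k E (a 0) + ∑ i : Fin n, algebraMap k E (a i.succ) * x i) = 0 :=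
          Ideal.algebraMap_residueField_eq_zero.2 ha
        rw [map_add] at h4
        rw [IsScalarTower.algebraMap_apply k E K]
        exact neg_eq_of_add_eq_zero_left h4
      · simp only [uPt, Fin.cons_succ]
        change ev (MvPolynomial.X i) = _
        simp only [ev, MvPolynomial.eval₂Hom_X']
  have h2 := congrArg (fun f => f g) hφ
  change φ (MvPolynomial.aeval (uPt x b) g) = algebraMap k K (MvPolynomial.eval a g) at h2
  rw [hg, map_zero] at h2
  exact (algebraMap k K).injective (by rw [← h2, map_zero])

end Groth.Agent.An.H548.Chart
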