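import Groth.Agent.CalgB.JacRank
import Mathlib.RingTheory.Smooth.StandardSmoothOfFree
import Mathlib.RingTheory.RingHom.StandardSmooth
import Mathlib.RingTheory.Smooth.Local
import Mathlib.RingTheory.Etale.Kaehler
import Mathlib.AlgebraicGeometry.Morphisms.Smooth

/-!
# The Jacobian criterion for one equation, with relative dimensions
-/

set_option autoImplicit false
universe u

open TensorProduct KaehlerDifferential AlgebraicGeometry CategoryTheory IsLocalRing

namespace Groth.Agent.An.H548.JacOne

section Rank

variable {k B : Type u} [CommRing k] [CommRing B] [Algebra k B]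

/-- At a prime where `B` is locally standard smooth of relative dimension `d`, the differentials of the local ring are
free of rank `d` and the local ring is formally smooth. -/
theorem free_localRing (q : Ideal B) [q.IsPrime] (f : B) (hf : f ∉ q) (d : ℕ)
    (h : (algebraMap k (Localization.Away f)).IsStandardSmoothOfRelativeDimension d) :
    Module.Free (Localization.AtPrime q) Ω[Localization.AtPrime q⁄k] ∧
      Module.Finite (Localization.AtPrime q) Ω[Localization.AtPrime q⁄k] ∧
      Module.finrank (Localization.AtPrime q) Ω[Localization.AtPrime q⁄k] = d ∧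
      Algebra.FormallySmooth k (Localization.AtPrime q) := by
  let E := Localization.Away f
  let S := Localization.AtPrime q
  have hu : IsUnit (algebraMap B S f) := IsLocalization.map_units (M := q.primeCompl) S ⟨f, hf⟩
  let φ : E →+* S := IsLocalization.Away.lift f hu
  let _ : Algebra E S := φ.toAlgebra
  have ht : IsScalarTower B E S := IsScalarTower.of_algebraMap_eq fun b =>
    (IsLocalization.Away.lift_eq f hu b).symm
  have ht' : IsScalarTower k E S := IsScalarTower.of_algebraMap_eq fun c => by
    rw [IsScalarTower.algebraMap_apply k B S, IsScalarTower.algebraMap_apply B E S,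
      ← IsScalarTower.algebraMap_apply k B E]
  have hE1 : Algebra.FormallyEtale B E := .of_isLocalization (Submonoid.powers f)
  have hE2 : Algebra.FormallyEtale B S := .of_isLocalization q.primeCompl
  have hE3 : Algebra.FormallyEtale E S := .of_restrictScalars (R := B)
  rw [RingHom.isStandardSmoothOfRelativeDimension_algebraMap] at h
  have hN : Nontrivial E := φ.domain_nontrivial
  have hss : Algebra.IsStandardSmooth k E := h.isStandardSmooth d
  have hsm : Algebra.Smooth k E := inferInstance
  have hfr : Module.Free E Ω[E⁄k] := inferInstance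
  have hfi : Module.Finite E Ω[E⁄k] := inferInstance
  let e := KaehlerDifferential.tensorKaehlerEquivOfFormallyEtale k E S
  refine ⟨Module.Free.of_equiv e, Module.Finite.equiv e, ?_, ?_⟩
  · rw [← e.finrank_eq, Module.finrank_baseChange]
    exact Module.finrank_eq_of_rank_eq h.rank_kaehlerDifferential
  · have : Algebra.FormallySmooth k E := inferInstance
    exact Algebra.FormallySmooth.comp k E S

/-- Converse for the relative dimension: a standard smooth neighbourhood of a point has relative dimension the rank of the
differentials of the local ring. -/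
theorem exists_standardSmooth_of_finrank [Algebra.FinitePresentation k B] (q : Ideal B) [q.IsPrime]
    (h : Algebra.IsSmoothAt k q) :
    ∃ f ∉ q, (algebraMap k (Localization.Away f)).IsStandardSmoothOfRelativeDimension
      (Module.finrank (Localization.AtPrime q) Ω[Localization.AtPrime q⁄k]) := by
  obtain ⟨f, hf, hsm⟩ := Algebra.IsSmoothAt.exists_notMem_isStandardSmooth k q
  obtain ⟨_, _, _, _, ⟨P⟩⟩ := hsm
  have h1 : (algebraMap k (Localization.Away f)).IsStandardSmoothOfRelativeDimension P.dimension := by
    rw [RingHom.isStandardSmoothOfRelativeDimension_algebraMap]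
    exact ⟨_, _, _, ‹_›, P, rfl⟩
  refine ⟨f, hf, ?_⟩
  rw [(free_localRing q f hf _ h1).2.2.1]
  exact h1

end Rank

section Jac

variable {k A : Type u} [Field k] [CommRing A] [Algebra k A] [Algebra.FiniteType k A]

/-- Local form: `P → S` surjective with kernel generated by `h`, `d h ≠ 0`. -/
theorem formallySmooth_of_span {P S : Type u} [CommRing P] [CommRing S] [Algebra k P] [Algebra k S]
    [Algebra P S] [IsScalarTower k P S] [IsLocalRing P] [IsNoetherianRing P] [IsLocalRing S]
    [Algebra.FormallySmooth k P] [Module.Free P Ω[P⁄k]] [Module.Finite P Ω[P⁄k]]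
    (hs : Function.Surjective (algebraMap P S)) (h : P) (hker : RingHom.ker (algebraMap P S) = Ideal.span {h})
    (hd : (1 : ResidueField S) ⊗ₜ[P] D k P h ≠ 0) :
    Algebra.FormallySmooth k S ∧ Module.finrank (ResidueField S) (ResidueField S ⊗[S] Ω[S⁄k]) + 1 =
      Module.finrank P Ω[P⁄k] := by
  let κ := ResidueField S
  let δ := cotangentComplexBaseChange k S P κ
  have hh : h ∈ RingHom.ker (algebraMap P S) := by rw [hker]; exact Ideal.mem_span_singleton_self h
  have hgen : ∀ w : κ ⊗[P] RingHom.ker (algebraMap P S), ∃ c : κ, w = c • ((1 : κ) ⊗ₜ[P] (⟨h, hh⟩ : RingHom.ker (algebraMap P S))) := by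
    intro w
    induction w using TensorProduct.induction_on with
    | zero => exact ⟨0, by rw [zero_smul]⟩
    | tmul c y =>
      obtain ⟨y, hy⟩ := y
      have hy' := hy
      rw [hker, Ideal.mem_span_singleton'] at hy'
      obtain ⟨t, rfl⟩ := hy'
      refine ⟨c * algebraMap P κ t, ?_⟩
      have h1 : (⟨t * h, hy⟩ : RingHom.ker (algebraMap P S)) = t • ⟨h, hh⟩ := rfl
      rw [h1, TensorProduct.tmul_smul, TensorProduct.smul_tmul', TensorProduct.smul_tmul', smul_eq_mul, mul_one,
        Algebra.smul_def, mul_comm]
    | add a b ha hb =>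
      obtain ⟨ca, ha⟩ := ha
      obtain ⟨cb, hb⟩ := hb
      exact ⟨ca + cb, by rw [add_smul, ← ha, ← hb]⟩
  have hδ : δ ((1 : κ) ⊗ₜ[P] (⟨h, hh⟩ : RingHom.ker (algebraMap P S))) = (1 : κ) ⊗ₜ[P] D k P h := by
    change cotangentComplexBaseChange k S P κ (1 ⊗ₜ _) = _
    rw [cotangentComplexBaseChange_tmul, kerToTensor_apply]
    simp
  have hinj : Function.Injective δ := by
    rw [injective_iff_map_eq_zero]
    intro w hw
    obtain ⟨c, rfl⟩ := hgen w
    rw [map_smul, hδ, smul_eq_zero] at hw
    rw [hw.resolve_right hd, zero_smul]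
  refine ⟨(Algebra.FormallySmooth.iff_injective_cotangentComplexBaseChange_residueField
    (R := k) (S := S) P hs (IsNoetherian.noetherian _)).2 hinj, ?_⟩
  have hsum := Groth.Agent.CalgB.JacRank.finrank_range_add (k := k) hs
  rw [← hsum, add_comm, LinearMap.finrank_range_of_inj hinj]
  congr 1
  symm
  refine finrank_eq_one ((1 : κ) ⊗ₜ[P] (⟨h, hh⟩ : RingHom.ker (algebraMap P S))) ?_ ?_
  · intro h0
    rw [h0, map_zero] at hδ
    exact hd hδ.symm
  · intro w
    obtain ⟨c, hc⟩ := hgen w
    exact ⟨c, hc.symm⟩

/-- The Jacobian criterion for one equation, ring form. -/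
theorem exists_standardSmooth_quotient (h : A) (r : ℕ) (q : Ideal (A ⧸ Ideal.span {h})) [q.IsPrime]
    (g : A) (hg : g ∉ q.comap (Ideal.Quotient.mk (Ideal.span {h})))
    (hsm : (algebraMap k (Localization.Away g)).IsStandardSmoothOfRelativeDimension r)
    (hd : (1 : (q.comap (Ideal.Quotient.mk (Ideal.span {h}))).ResidueField) ⊗ₜ[A] D k A h ≠ 0) :
    ∃ f ∉ q, (algebraMap k (Localization.Away f)).IsStandardSmoothOfRelativeDimension (r - 1) := by
  let p : Ideal A := q.comap (Ideal.Quotient.mk (Ideal.span {h}))
  let C := A ⧸ Ideal.span {h}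
  let P := Localization.AtPrime p
  let S := Localization.AtPrime q
  obtain ⟨hfree, hfin, hrank, hfs⟩ := free_localRing p g hg r hsm
  have hNA : IsNoetherianRing A := Algebra.FiniteType.isNoetherianRing k A
  have hNP : IsNoetherianRing P := IsLocalization.isNoetherianRing p.primeCompl P hNA
  let φ : P →+* S := Localization.localRingHom p q (Ideal.Quotient.mk (Ideal.span {h})) rfl
  have hφ : ∀ a : A, φ (algebraMap A P a) = algebraMap C S (Ideal.Quotient.mk _ a) := fun a =>
    Localization.localRingHom_to_map p q _ rfl a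
  let _ : Algebra P S := φ.toAlgebra
  have ht : IsScalarTower A P S := IsScalarTower.of_algebraMap_eq fun a => (hφ a).symm
  have ht' : IsScalarTower k P S := IsScalarTower.of_algebraMap_eq fun a => by
    rw [IsScalarTower.algebraMap_apply k A P, IsScalarTower.algebraMap_apply k A S, ← IsScalarTower.algebraMap_apply A P S]
  have hs : Function.Surjective (algebraMap P S) := by
    intro y
    obtain ⟨c, s, rfl⟩ := IsLocalization.exists_mk'_eq q.primeCompl y
    obtain ⟨c, rfl⟩ := Ideal.Quotient.mk_surjective c
    obtain ⟨s, hs⟩ := s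
    obtain ⟨s, rfl⟩ := Ideal.Quotient.mk_surjective s
    refine ⟨IsLocalization.mk' P c (⟨s, hs⟩ : p.primeCompl), ?_⟩
    change φ _ = _
    exact Localization.localRingHom_mk' p q _ rfl c ⟨s, hs⟩
  have hker : RingHom.ker (algebraMap P S) = Ideal.span {algebraMap A P h} := by
    apply le_antisymm
    · intro y hy
      obtain ⟨c, s, rfl⟩ := IsLocalization.exists_mk'_eq p.primeCompl y
      rw [RingHom.mem_ker] at hy
      change φ _ = 0 at hy
      have h1 : φ (IsLocalization.mk' P c s) * φ (algebraMap A P s) = φ (algebraMap A P c) := by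
        rw [← map_mul, IsLocalization.mk'_spec]
      rw [hy, zero_mul, hφ] at h1
      rw [eq_comm, IsLocalization.map_eq_zero_iff q.primeCompl] at h1
      obtain ⟨⟨t, ht⟩, h2⟩ := h1
      obtain ⟨t, rfl⟩ := Ideal.Quotient.mk_surjective t
      rw [← map_mul, Ideal.Quotient.eq_zero_iff_mem, Ideal.mem_span_singleton'] at h2
      obtain ⟨b, hb⟩ := h2
      have hu : IsUnit (algebraMap A P t) := IsLocalization.map_units (M := p.primeCompl) P ⟨t, ht⟩
      have hus : IsUnit (algebraMap A P s) := IsLocalization.map_units P s
      have h3 : algebraMap A P t * algebraMap A P s * IsLocalization.mk' P c s = algebraMap A P b * algebraMap A P h := by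
        rw [mul_assoc, IsLocalization.mk'_spec', ← map_mul, ← map_mul, hb]
      have h4 : algebraMap A P t * algebraMap A P s * IsLocalization.mk' P c s ∈ Ideal.span {algebraMap A P h} := by
        rw [h3]; exact Ideal.mul_mem_left _ _ (Ideal.mem_span_singleton_self _)
      exact (Ideal.unit_mul_mem_iff_mem _ (hu.mul hus)).1 h4
    · rw [Ideal.span_singleton_le_iff_mem, RingHom.mem_ker]
      change φ _ = 0
      rw [hφ, Ideal.Quotient.eq_zero_iff_mem.2 (Ideal.mem_span_singleton_self h), map_zero]
  have hd' : (1 : ResidueField S) ⊗ₜ[P] D k P (algebraMap A P h) ≠ 0 := by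
    intro h0
    apply hd
    have hκ : Function.Surjective (algebraMap P (ResidueField S)) := by
      rw [IsScalarTower.algebraMap_eq P S (ResidueField S)]
      exact residue_surjective.comp hs
    have h1 := Groth.Agent.CalgB.JacRank.mem_smul_top_of_one_tmul_eq_zero hκ _ h0
    have hkerκ : RingHom.ker (algebraMap P (ResidueField S)) ≤ maximalIdeal P :=
      le_maximalIdeal (RingHom.ker_ne_top _)
    have het : Algebra.FormallyEtale A P := .of_isLocalization p.primeCompl
    let e := KaehlerDifferential.tensorKaehlerEquivOfFormallyEtale k A P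
    let L : P ⊗[A] Ω[A⁄k] →ₗ[P] p.ResidueField ⊗[A] Ω[A⁄k] :=
      TensorProduct.AlgebraTensorModule.map (Algebra.linearMap P p.ResidueField) LinearMap.id
    have h2 : ∀ y ∈ (RingHom.ker (algebraMap P (ResidueField S))) • (⊤ : Submodule P Ω[P⁄k]),
        L (e.symm y) = 0 := by
      intro y hy
      refine Submodule.smul_induction_on hy (fun m hm w _ => ?_) (fun a b ha hb => ?_)
      · rw [map_smul, map_smul]
        have h3 : ∀ z : p.ResidueField ⊗[A] Ω[A⁄k], m • z = 0 := by
          intro z
          rw [← algebraMap_smul (A := p.ResidueField) m z]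
          have : algebraMap P p.ResidueField m = 0 := by
            rw [IsLocalRing.ResidueField.algebraMap_eq, IsLocalRing.residue_eq_zero_iff]
            exact hkerκ hm
          rw [this, zero_smul]
        exact h3 _
      · rw [map_add, map_add, ha, hb, add_zero]
    have h4 := h2 _ h1
    have h5 : e.symm (D k P (algebraMap A P h)) = 1 ⊗ₜ D k A h :=
      KaehlerDifferential.tensorKaehlerEquivOfFormallyEtale_symm_D_algebraMap k A P h
    rw [h5] at h4
    have h6 : L (1 ⊗ₜ D k A h) = (1 : p.ResidueField) ⊗ₜ[A] D k A h := by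
      simp [L]
    rw [h6] at h4
    exact h4
  obtain ⟨hfsS, hrk⟩ := formallySmooth_of_span (k := k) hs (algebraMap A P h) hker hd'
  have hfp : Algebra.FinitePresentation k C := Algebra.FinitePresentation.of_finiteType.1 inferInstance
  obtain ⟨f, hf, hstd⟩ := exists_standardSmooth_of_finrank (k := k) q hfsS
  refine ⟨f, hf, ?_⟩
  have hloc := free_localRing q f hf _ hstd
  have hfr : Module.Free S Ω[S⁄k] := hloc.1
  have h5 : Module.finrank (ResidueField S) (ResidueField S ⊗[S] Ω[S⁄k]) = Module.finrank S Ω[S⁄k] :=
    Module.finrank_baseChange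
  rw [h5, hrank] at hrk
  have h6 : r - 1 = Module.finrank S Ω[S⁄k] := by omega
  rw [h6]
  exact hstd

/-- The Jacobian criterion for one equation, scheme form. -/
theorem exists_smoothOfRelativeDimension (h : A) (r : ℕ) (q : Ideal (A ⧸ Ideal.span {h})) [q.IsPrime]
    (g : A) (hg : g ∉ q.comap (Ideal.Quotient.mk (Ideal.span {h})))
    (hsm : (algebraMap k (Localization.Away g)).IsStandardSmoothOfRelativeDimension r)
    (hd : (1 : (q.comap (Ideal.Quotient.mk (Ideal.span {h}))).ResidueField) ⊗ₜ[A] D k A h ≠ 0) :
    ∃ f : A ⧸ Ideal.span {h}, f ∉ q ∧ SmoothOfRelativeDimension (r - 1)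
      (Spec.map (CommRingCat.ofHom (algebraMap k (Localization.Away f)))) := by
  obtain ⟨f, hf, hstd⟩ := exists_standardSmooth_quotient h r q g hg hsm hd
  refine ⟨f, hf, ?_⟩
  rw [HasRingHomProperty.Spec_iff (P := @SmoothOfRelativeDimension (r - 1))]
  exact RingHom.locally_of RingHom.isStandardSmoothOfRelativeDimension_respectsIso _ hstd

end Jac

end Groth.Agent.An.H548.JacOne
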