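import Groth.Agent.Flat2B.GenDim
import Groth.Agent.Ega4B.DimFT

/-!
# Relative dimension of smooth points of equidimensional algebras of finite type over a field
-/

set_option autoImplicit false
universe u

open TensorProduct KaehlerDifferential

namespace Groth.Agent.An.H548.RelDim

open Groth.Agent.Flat2B.FlatDim Groth.Agent.CycB.TrdegAlg Groth.Agent.Flat2B.GenDim

variable {k : Type u} [Field k] {A : Type u} [CommRing A] [Algebra k A]

instance liesOver_bot (Q : Ideal A) [Q.IsPrime] : Q.LiesOver (⊥ : Ideal k) :=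
  ⟨((Ideal.eq_bot_or_top (Q.under k)).resolve_right (Ideal.IsPrime.ne_top inferInstance)).symm⟩

/-- The relative transcendence degree over `⊥ ⊂ k` is the transcendence degree of the quotient. -/
theorem rtd_bot_eq (Q : Ideal A) [Q.IsPrime] : rtd (⊥ : Ideal k) Q = Algebra.trdeg k (A ⧸ Q) := by
  rw [rtd_eq_trdeg_quotient, ← trd_algebraMap]
  have h1 : algebraMap k (A ⧸ Q) =
      (Ideal.quotientMap Q (algebraMap k A) (Ideal.over_def Q (⊥ : Ideal k)).le).comp
        (Ideal.Quotient.mk (⊥ : Ideal k)) := by
    ext x; rfl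
  have hinj : Function.Injective (Ideal.Quotient.mk (⊥ : Ideal k)) := by
    rw [RingHom.injective_iff_ker_eq_bot, Ideal.mk_ker]
  have hinj2 : Function.Injective
      (Ideal.quotientMap Q (algebraMap k A) (Ideal.over_def Q (⊥ : Ideal k)).le) :=
    Ideal.quotientMap_injective' (Ideal.over_def Q (⊥ : Ideal k)).ge
  rw [h1, trd_comp' _ _ hinj hinj2, trd_eq_zero_of_surjective _ hinj Ideal.Quotient.mk_surjective, zero_add]

/-- The transcendence degree of the residue field. -/
theorem trdeg_residueField (Q : Ideal A) [Q.IsPrime] :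
    Algebra.trdeg k Q.ResidueField = Algebra.trdeg k (A ⧸ Q) := by
  have h1 : algebraMap k Q.ResidueField = (algebraMap (A ⧸ Q) Q.ResidueField).comp (algebraMap k (A ⧸ Q)) := by
    ext x
    rw [RingHom.comp_apply, IsScalarTower.algebraMap_apply k A Q.ResidueField,
      IsScalarTower.algebraMap_apply k A (A ⧸ Q), ← IsScalarTower.algebraMap_apply A (A ⧸ Q) Q.ResidueField]
  have : Algebra.IsAlgebraic (A ⧸ Q) Q.ResidueField :=
    IsLocalization.isAlgebraic _ (nonZeroDivisors (A ⧸ Q))
  rw [← trd_algebraMap (K := k) (L := Q.ResidueField), h1,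
    trd_comp' _ _ (algebraMap k (A ⧸ Q)).injective (IsFractionRing.injective (A ⧸ Q) Q.ResidueField),
    trd_algebraMap, trd_algebraMap, trdeg_eq_zero (R := A ⧸ Q) (A := Q.ResidueField), add_zero]

/-- The minimal primes of a standard smooth algebra of relative dimension `n` over a field. -/
theorem rtd_of_minimal {E : Type u} [CommRing E] [Algebra k E] (n : ℕ)
    (hE : (algebraMap k E).IsStandardSmoothOfRelativeDimension n) (q : Ideal E) [q.IsPrime]
    (hq : q ∈ minimalPrimes E) : rtd (⊥ : Ideal k) q = n := by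
  refine rtd_eq_of_isStandardSmooth n hE ⊥ q fun q' hq' _ hle => ?_
  exact le_antisymm hle (hq.2 ⟨hq', bot_le⟩ hle)

/-- All residue fields of a standard smooth algebra of relative dimension `n` over a field have transcendence degree at
most `n`. -/
theorem trdeg_residueField_le {E : Type u} [CommRing E] [Algebra k E] (n : ℕ)
    (hE : (algebraMap k E).IsStandardSmoothOfRelativeDimension n) (q : Ideal E) [q.IsPrime] :
    Algebra.trdeg k q.ResidueField ≤ (n : Cardinal.{u}) := by
  obtain ⟨q₀, hq₀, hle⟩ := Ideal.exists_minimalPrimes_le (I := ⊥) (J := q) bot_le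
  have hp : q₀.IsPrime := hq₀.1.1
  rw [trdeg_residueField, ← rtd_of_minimal n hE q₀ hq₀, rtd_bot_eq]
  exact trdeg_le_of_surjective (Ideal.Quotient.factorₐ k hle) (Ideal.Quotient.factor_surjective hle)

theorem rtd_away (g : A) (n : ℕ)
    (hg : (algebraMap k (Localization.Away g)).IsStandardSmoothOfRelativeDimension n)
    (η : Ideal A) [η.IsPrime] (hη : η ∈ minimalPrimes A) (hgη : g ∉ η) : rtd (⊥ : Ideal k) η = n := by
  let E := Localization.Away g
  let q : Ideal E := η.map (algebraMap A E)
  have hdis : Disjoint (Submonoid.powers g : Set A) (η : Set A) := by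
    rw [Set.disjoint_left]
    rintro _ ⟨k, rfl⟩ hk
    exact hgη (Ideal.IsPrime.mem_of_pow_mem inferInstance k hk)
  have hqp : q.IsPrime := IsLocalization.isPrime_of_isPrime_disjoint (Submonoid.powers g) E η inferInstance hdis
  have hqc : q.comap (algebraMap A E) = η :=
    IsLocalization.under_map_of_isPrime_disjoint (Submonoid.powers g) E inferInstance hdis
  have hqη : q.LiesOver η := ⟨hqc.symm⟩
  have hqf : Algebra.QuasiFinite A E := inferInstance
  have h1 : rtd (⊥ : Ideal k) q = n := by
    refine rtd_of_minimal n hg q ⟨⟨hqp, bot_le⟩, fun q' hq' hle => ?_⟩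
    have hq'p : q'.IsPrime := hq'.1
    have h2 : q'.comap (algebraMap A E) ≤ η := by
      rw [← hqc]; exact Ideal.comap_mono hle
    have h3 : η ≤ q'.comap (algebraMap A E) := hη.2 ⟨Ideal.comap_isPrime _ _, bot_le⟩ h2
    exact Ideal.map_le_iff_le_comap.2 h3
  rw [rtd_add (⊥ : Ideal k) η q, rtd_eq_zero_of_quasiFinite η q, add_zero] at h1
  exact h1

/-- At a smooth point of an algebra of finite type over `k` all of whose irreducible components have dimension `r`, the
algebra is standard smooth of relative dimension `r` in a neighbourhood. -/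
theorem exists_standardSmooth [Algebra.FiniteType k A] (r : ℕ)
    (hdim : ∀ P ∈ minimalPrimes A, ringKrullDim (A ⧸ P) = r) (p : Ideal A) [p.IsPrime]
    (hp : Algebra.IsSmoothAt k p) :
    ∃ g ∉ p, (algebraMap k (Localization.Away g)).IsStandardSmoothOfRelativeDimension r := by
  have : Algebra.FinitePresentation k A := Algebra.FinitePresentation.of_finiteType.1 inferInstance
  obtain ⟨g, hg, hsm⟩ := Algebra.IsSmoothAt.exists_notMem_isStandardSmooth k p
  obtain ⟨_, _, _, _, ⟨P⟩⟩ := hsm
  have h1 : (algebraMap k (Localization.Away g)).IsStandardSmoothOfRelativeDimension P.dimension := by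
    rw [RingHom.isStandardSmoothOfRelativeDimension_algebraMap]
    exact ⟨_, _, _, ‹_›, P, rfl⟩
  refine ⟨g, hg, ?_⟩
  obtain ⟨η, hη, hle⟩ := Ideal.exists_minimalPrimes_le (I := ⊥) (J := p) bot_le
  have hηp : η.IsPrime := hη.1.1
  have h2 := rtd_away (k := k) g P.dimension h1 η hη (fun h => hg (hle h))
  rw [rtd_bot_eq] at h2
  obtain ⟨m, hm1, hm2⟩ := Groth.Agent.Ega4B.DimFT.exists_dim k (A ⧸ η)
  have h3 := hdim η hη
  rw [hm2] at h3
  rw [hm1] at h2
  have h4 : m = r := by exact_mod_cast h3
  have h5 : m = P.dimension := by exact_mod_cast h2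
  rw [← h4, h5]
  exact h1

end Groth.Agent.An.H548.RelDim
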