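import Mathlib.RingTheory.AlgebraicIndependent.TranscendenceBasis
import Mathlib.RingTheory.AlgebraicIndependent.Transcendental
import Mathlib.FieldTheory.IntermediateField.Adjoin.Algebra
import Mathlib.LinearAlgebra.Dimension.DivisionRing
import Mathlib.LinearAlgebra.FiniteDimensional.Lemmas

/-!
# Dimension count for the incidence variety of hyperplanes

`not_algebraicIndependent`: let `K / k` be a field extension of transcendence degree at most `r`, `m i` (`i : Fin n`)
vectors spanning `K^r`, `x i` elements of `K`, and `a i` elements of an extension `F` of `K` with `∑ a_i m_i = 0` in `F^r`.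
Then `-∑ a_i x_i, a_0, …, a_{n-1}` are algebraically dependent over `k`.
-/

set_option autoImplicit false
universe u

namespace Groth.Agent.An.H548.TrdegCore

open Algebra

/-- An extension field generated by `d` elements has transcendence degree at most `d`. -/
theorem trdeg_adjoin_le {K F : Type u} [Field K] [Field F] [Algebra K F] (s : Set F) :
    trdeg K (IntermediateField.adjoin K s) ≤ Cardinal.mk s := by
  let L := IntermediateField.adjoin K s
  let t : Set L := (fun x : L => (x : F)) ⁻¹' s
  have hts : (fun x : L => (x : F)) '' t = s := by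
    ext y
    constructor
    · rintro ⟨z, hz, rfl⟩; exact hz
    · intro hy
      exact ⟨⟨y, IntermediateField.subset_adjoin K s hy⟩, hy, rfl⟩
  have hcard : Cardinal.mk t ≤ Cardinal.mk s := by
    refine Cardinal.mk_le_of_injective (f := fun x : t => (⟨x.1.1, x.2⟩ : s)) ?_
    intro x y hxy
    have h1 : (x.1.1 : F) = y.1.1 := by simpa using hxy
    exact Subtype.ext (Subtype.ext h1)
  have hadj : IntermediateField.adjoin K t = (⊤ : IntermediateField K L) := by
    apply IntermediateField.map_injective L.val
    rw [IntermediateField.adjoin_map]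
    have h1 : (L.val : L → F) '' t = s := hts
    rw [h1]
    rw [← AlgHom.fieldRange_eq_map, IntermediateField.fieldRange_val]
  have halg : Algebra.IsAlgebraic (Algebra.adjoin K t) L := by
    refine ⟨fun y => ?_⟩
    have hy : y ∈ IntermediateField.adjoin K t := by rw [hadj]; trivial
    rw [IntermediateField.mem_adjoin_iff_div] at hy
    obtain ⟨a, ha, b, hb, rfl⟩ := hy
    rw [div_eq_mul_inv]
    have h1 : IsAlgebraic (Algebra.adjoin K t) a := isAlgebraic_algebraMap (⟨a, ha⟩ : Algebra.adjoin K t)
    have h2 : IsAlgebraic (Algebra.adjoin K t) b := isAlgebraic_algebraMap (⟨b, hb⟩ : Algebra.adjoin K t)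
    exact h1.mul h2.inv
  exact (Algebra.IsAlgebraic.trdeg_le_cardinalMk K t).trans hcard

theorem not_algebraicIndependent {k K F : Type u} [Field k] [Field K] [Field F] [Algebra k K] [Algebra K F]
    [Algebra k F] [IsScalarTower k K F] (n r : ℕ) (hr : trdeg k K ≤ (r : Cardinal.{u}))
    (m : Fin n → (Fin r → K)) (hm : Submodule.span K (Set.range m) = ⊤)
    (a : Fin n → F) (ha : ∀ j, ∑ i, a i * algebraMap K F (m i j) = 0) (x : Fin n → K) :
    ¬ AlgebraicIndependent k (Fin.cons (-∑ i, a i * algebraMap K F (x i)) a : Fin (n + 1) → F) := by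
  intro hind
  classical
  -- the linear map `K^n → K^r` and a section
  let Φ : (Fin n → K) →ₗ[K] (Fin r → K) := Fintype.linearCombination K m
  have hΦ : Function.Surjective Φ := by
    rw [← LinearMap.range_eq_top, ← hm]
    exact Fintype.range_linearCombination K m
  obtain ⟨σ, hσ⟩ := Φ.exists_rightInverse_of_surjective (LinearMap.range_eq_top.2 hΦ)
  -- the kernel has dimension `n - r`
  have hker : Module.finrank K (LinearMap.ker Φ) + r = n := by
    have h1 := LinearMap.finrank_range_add_finrank_ker Φ
    rw [LinearMap.range_eq_top.2 hΦ, finrank_top] at h1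
    simp at h1
    omega
  let d := Module.finrank K (LinearMap.ker Φ)
  let ν : Module.Basis (Fin d) K (LinearMap.ker Φ) := Module.finBasis K (LinearMap.ker Φ)
  -- the vectors `u_i = e_i - σ (Φ e_i)` of the kernel
  let e : Fin n → (Fin n → K) := fun i => Pi.single i 1
  have hu : ∀ i, e i - σ (Φ (e i)) ∈ LinearMap.ker Φ := by
    intro i
    rw [LinearMap.mem_ker, map_sub]
    have : Φ (σ (Φ (e i))) = Φ (e i) := LinearMap.congr_fun hσ (Φ (e i))
    rw [this, sub_self]
  let u : Fin n → LinearMap.ker Φ := fun i => ⟨e i - σ (Φ (e i)), hu i⟩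
  let c : Fin d → F := fun l => ∑ i, a i * algebraMap K F (ν.repr (u i) l)
  -- `a_t = ∑_l c_l ν_l(t)`
  have key : ∀ t, a t = ∑ l, c l * algebraMap K F ((ν l : Fin n → K) t) := by
    intro t
    have h1 : ∀ i, (u i : Fin n → K) t = ∑ l, ν.repr (u i) l * (ν l : Fin n → K) t := by
      intro i
      have h2 := congrArg (fun w : LinearMap.ker Φ => (w : Fin n → K) t) (ν.sum_repr (u i))
      refine h2.symm.trans ?_
      rw [AddSubmonoidClass.coe_finset_sum, Finset.sum_apply]
      rfl
    have h3 : ∑ l, c l * algebraMap K F ((ν l : Fin n → K) t) =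
        ∑ i, a i * algebraMap K F ((u i : Fin n → K) t) := by
      simp only [c, Finset.sum_mul]
      rw [Finset.sum_comm]
      refine Finset.sum_congr rfl fun i _ => ?_
      rw [h1 i, map_sum, Finset.mul_sum]
      refine Finset.sum_congr rfl fun l _ => ?_
      rw [map_mul]; ring
    rw [h3]
    have h4 : ∀ i, (u i : Fin n → K) t = (if i = t then 1 else 0) - ∑ j, m i j * σ (Pi.single j 1) t := by
      intro i
      change (e i - σ (Φ (e i))) t = _
      have h5 : Φ (e i) = m i := by
        simp [Φ, e, Fintype.linearCombination_apply]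
      have h6 : σ (m i) = ∑ j, m i j • σ (Pi.single j 1) := by
        conv_lhs => rw [pi_eq_sum_univ' (m i)]
        rw [map_sum]
        refine Finset.sum_congr rfl fun j _ => ?_
        rw [map_smul]
      rw [h5, h6]
      simp [e, Pi.single_apply, Finset.sum_apply, eq_comm]
    simp only [h4, map_sub, mul_sub, Finset.sum_sub_distrib]
    have h7 : ∑ i, a i * algebraMap K F (∑ j, m i j * σ (Pi.single j 1) t) = 0 := by
      have h8 : ∀ i, a i * algebraMap K F (∑ j, m i j * σ (Pi.single j 1) t) =
          ∑ j, (a i * algebraMap K F (m i j)) * algebraMap K F (σ (Pi.single j 1) t) := by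
        intro i
        rw [map_sum, Finset.mul_sum]
        refine Finset.sum_congr rfl fun j _ => ?_
        rw [map_mul]; ring
      simp only [h8]
      rw [Finset.sum_comm]
      refine Finset.sum_eq_zero fun j _ => ?_
      rw [← Finset.sum_mul, ha j, zero_mul]
    rw [h7, sub_zero]
    simp
  -- the intermediate field
  let L := IntermediateField.adjoin K (Set.range c)
  have hc : ∀ l, c l ∈ L := fun l => IntermediateField.subset_adjoin K _ ⟨l, rfl⟩
  have haL : ∀ t, a t ∈ L := by
    intro t
    rw [key t]
    exact sum_mem fun l _ => mul_mem (hc l) (L.algebraMap_mem _)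
  have ha0 : -∑ i, a i * algebraMap K F (x i) ∈ L :=
    neg_mem (sum_mem fun l _ => mul_mem (haL l) (L.algebraMap_mem _))
  have hall : ∀ t, (Fin.cons (-∑ i, a i * algebraMap K F (x i)) a : Fin (n + 1) → F) t ∈ L := by
    intro t
    refine Fin.cases ?_ (fun i => ?_) t
    · exact ha0
    · exact haL i
  let b : Fin (n + 1) → L := fun t => ⟨_, hall t⟩
  have hb : AlgebraicIndependent k b := by
    have h1 : AlgebraicIndependent k ((L.val.restrictScalars k) ∘ b) := hind
    exact h1.of_comp _
  have h1 := hb.lift_cardinalMk_le_trdeg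
  have h2 : trdeg k K + trdeg K L = trdeg k L := trdeg_add_eq k K
  have h3 : trdeg K L ≤ (d : Cardinal.{u}) := by
    refine (trdeg_adjoin_le (Set.range c)).trans ?_
    refine (Cardinal.mk_range_le_lift (f := c)).trans' ?_ |>.trans ?_
    all_goals simp
  have h4 : trdeg k L ≤ ((r + d : ℕ) : Cardinal.{u}) := by
    rw [← h2]; push_cast; exact add_le_add hr h3
  rw [Cardinal.mk_fin] at h1
  simp only [Cardinal.lift_natCast] at h1
  have h5 := h1.trans (Cardinal.lift_le.2 h4)
  simp only [Cardinal.lift_natCast, Nat.cast_le] at h5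
  omega

end Groth.Agent.An.H548.TrdegCore
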